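import Groth.Prelude.Def_FlatMod2
import Groth.Agent.Lib.Modules.StalkModule
import Groth.Agent.Lib.QCoh.Localizing
import Mathlib.AlgebraicGeometry.AffineScheme
import Mathlib.Algebra.Module.LocalizedModule.Basic

/-!
# The stalk of a quasi-coherent module is the localization of its sections on an affine open
-/

universe u

open CategoryTheory AlgebraicGeometry Opposite TopologicalSpace

namespace Groth.Agent.Lib.StalkLoc.Basic

open Groth.Agent.Lib Groth.Agent.Lib.QCoh.Localizing

variable {X : Scheme.{u}} (M : X.Modules)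

/-- `M_x` as a `Γ(X, U)`-module through the germ map. -/
noncomputable abbrev moduleSections {U : X.Opens} {x : X} (hx : x ∈ U) :
    Module Γ(X, U) (M.presheaf.stalk x) :=
  Module.compHom _ (X.presheaf.germ U x hx).hom

/-- The germ map, linear over `Γ(X, U)`. -/
noncomputable def germₗ {U : X.Opens} {x : X} (hx : x ∈ U) :
    letI := moduleSections M hx
    Γ(M, U) →ₗ[Γ(X, U)] M.presheaf.stalk x :=
  letI := moduleSections M hx
  { toFun := M.presheaf.germ U x hx
    map_add' := map_add _
    map_smul' := fun r m => Modules.StalkModule.germ_smul hx r m }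

lemma isScalarTower_sections {U : X.Opens} {x : X} (hx : x ∈ U) :
    letI := moduleSections M hx
    letI := TopCat.Presheaf.algebra_section_stalk X.presheaf (⟨x, hx⟩ : U)
    IsScalarTower Γ(X, U) (X.presheaf.stalk x) (M.presheaf.stalk x) :=
  letI := moduleSections M hx
  letI := TopCat.Presheaf.algebra_section_stalk X.presheaf (⟨x, hx⟩ : U)
  ⟨fun r a v => mul_smul (X.presheaf.germ U x hx r) a v⟩

variable {M}

/-- The germ of a section of a quasi-coherent module on an affine open is zero iff a function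
nonvanishing at the point kills the section. -/
lemma germ_eq_zero_iff [M.IsQuasicoherent] {U : X.Opens} (hU : IsAffineOpen U) {x : X} (hx : x ∈ U)
    (s : Γ(M, U)) :
    M.presheaf.germ U x hx s = 0 ↔ ∃ f : Γ(X, U), x ∈ X.basicOpen f ∧ f • s = 0 := by
  constructor
  · intro h
    obtain ⟨W, hxW, iU, iU', hW⟩ := TopCat.Presheaf.germ_eq M.presheaf x hx hx s 0 (by rw [h, map_zero])
    obtain ⟨f, hfW, hxf⟩ := hU.exists_basicOpen_le (⟨x, hxW⟩ : W) hx
    obtain ⟨n, hn⟩ := (localizes_of_isAffineOpen M hU f).sep s (by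
      have e : res M (X.basicOpen_le f) s = res M hfW (res M iU.le s) := by rw [res_res]
      rw [e, show res M iU.le s = 0 from hW.trans (map_zero _), map_zero])
    refine ⟨f ^ (n + 1), ?_, ?_⟩
    · rwa [Scheme.basicOpen_pow _ f (Nat.succ_pos n)]
    · rw [pow_succ', mul_smul, hn, smul_zero]
  · rintro ⟨f, hxf, hfs⟩
    have h := congrArg (M.presheaf.germ U x hx) hfs
    rw [Modules.StalkModule.germ_smul, map_zero] at h
    exact ((X.mem_basicOpen f x hx).mp hxf).smul_eq_zero.mp h

/-- Every element of the stalk is, up to a unit germ, the germ of a section on the affine open. -/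
lemma exists_smul_eq_germ [M.IsQuasicoherent] {U : X.Opens} (hU : IsAffineOpen U) {x : X}
    (hx : x ∈ U) (v : M.presheaf.stalk x) :
    ∃ (f : Γ(X, U)) (t : Γ(M, U)), x ∈ X.basicOpen f ∧
      X.presheaf.germ U x hx f • v = M.presheaf.germ U x hx t := by
  obtain ⟨W, hxW, s, rfl⟩ := TopCat.Presheaf.exists_germ_eq M.presheaf v
  obtain ⟨f, hfW, hxf⟩ := hU.exists_basicOpen_le (⟨x, hxW⟩ : W) hx
  obtain ⟨n, t, ht⟩ := (localizes_of_isAffineOpen M hU f).ext' (res M hfW s)
  refine ⟨f ^ (n + 1), f • t, ?_, ?_⟩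
  · rwa [Scheme.basicOpen_pow _ f (Nat.succ_pos n)]
  · have hgt : M.presheaf.germ U x hx t = M.presheaf.germ (X.basicOpen f) x hxf (res M (X.basicOpen_le f) t) :=
      (TopCat.Presheaf.germ_res_apply _ _ _ hxf t).symm
    rw [Modules.StalkModule.germ_smul, hgt, ht, Modules.StalkModule.germ_smul hxf, pow_succ',
      map_mul, mul_smul]
    congr 1
    rw [map_pow, map_pow]
    congr 1
    · rw [show X.presheaf.germ (X.basicOpen f) x hxf (resR (X.basicOpen_le f) f) =
        X.presheaf.germ U x hx f from TopCat.Presheaf.germ_res_apply _ _ _ hxf f]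
    · exact (TopCat.Presheaf.germ_res_apply _ _ _ hxf s).symm

/-- The stalk of a quasi-coherent module at a point of an affine open is the localization of the
sections over that open at the corresponding prime. -/
theorem isLocalizedModule_germ [M.IsQuasicoherent] {U : X.Opens} (hU : IsAffineOpen U) {x : X}
    (hx : x ∈ U) :
    letI := moduleSections M hx
    IsLocalizedModule (hU.primeIdealOf ⟨x, hx⟩).asIdeal.primeCompl (germₗ M hx) := by
  let _ := moduleSections M hx
  have hmem (f : Γ(X, U)) : f ∈ (hU.primeIdealOf ⟨x, hx⟩).asIdeal.primeCompl ↔ x ∈ X.basicOpen f := by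
    set q := hU.primeIdealOf ⟨x, hx⟩
    have e : hU.fromSpec q = x := hU.fromSpec_primeIdealOf ⟨x, hx⟩
    have e2 : q ∈ hU.fromSpec ⁻¹ᵁ X.basicOpen f ↔ x ∈ X.basicOpen f := by
      show hU.fromSpec q ∈ X.basicOpen f ↔ _
      rw [e]
    rw [← e2, hU.fromSpec_preimage_basicOpen]
    exact (PrimeSpectrum.mem_basicOpen _ _).symm
  refine ⟨fun f => ?_, fun v => ?_, fun {s t} h => ?_⟩
  · rw [Module.End.isUnit_iff]
    have hu : IsUnit (X.presheaf.germ U x hx f.1) := (X.mem_basicOpen f.1 x hx).mp ((hmem _).mp f.2)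
    exact hu.smul_bijective
  · obtain ⟨f, t, hf, e⟩ := exists_smul_eq_germ hU hx v
    exact ⟨⟨t, ⟨f, (hmem f).mpr hf⟩⟩, e⟩
  · obtain ⟨f, hf, e⟩ := (germ_eq_zero_iff hU hx (s - t)).mp (by
      rw [map_sub, sub_eq_zero]; exact h)
    exact ⟨⟨f, (hmem f).mpr hf⟩, by simpa [smul_sub, sub_eq_zero] using e⟩

end Groth.Agent.Lib.StalkLoc.Basic
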