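import Groth.Agent.Lib.StalkLoc.Ass
import Groth.Agent.Lib.Modules.GenStalk
import Mathlib.AlgebraicGeometry.Stalk
import Mathlib.RingTheory.FiniteLength
import Mathlib.RingTheory.Artinian.Module
import Mathlib.RingTheory.KrullDimension.Basic
import Mathlib.Algebra.Module.Torsion.Basic
import Mathlib.RingTheory.Support
import Mathlib.RingTheory.HopkinsLevitzki
import Mathlib.RingTheory.Ideal.Quotient.Noetherian

/-!
# Associated primes of stalks and generalizations

For a quasi-coherent module `M` on a locally Noetherian scheme, the associated primes of the stalk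
`M_x` are exactly the associated points of `M` specializing to `x`.
-/

universe u

open CategoryTheory AlgebraicGeometry Opposite TopologicalSpace

namespace Groth.Agent.Lib.StalkLoc.AssStalk

open Groth.Agent.Lib.StalkLoc.Basic

variable {X : Scheme.{u}} {M : X.Modules}

/-- For `q` a prime of `O_{X,x}`: `q` is associated to `M_x` iff the corresponding generalization of
`x` is an associated point of `M`. -/
theorem mem_associatedPrimes_stalk_iff [IsLocallyNoetherian X] [M.IsQuasicoherent] (x : X)
    (q : Spec (X.presheaf.stalk x)) :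
    q.asIdeal ∈ associatedPrimes (X.presheaf.stalk x) (M.presheaf.stalk x) ↔
      X.fromSpecStalk x q ∈ AssSch.Ass M := by
  obtain ⟨U, hU, hx, -⟩ := exists_isAffineOpen_mem_and_subset (x := x) (U := ⊤) trivial
  let _ := moduleSections M hx
  let _ := TopCat.Presheaf.algebra_section_stalk X.presheaf (⟨x, hx⟩ : U)
  have := isScalarTower_sections M hx
  have := hU.isLocalization_stalk ⟨x, hx⟩
  have := isLocalizedModule_germ (M := M) hU hx
  have := IsLocallyNoetherian.component_noetherian ⟨U, hU⟩
  have he : X.fromSpecStalk x q = hU.fromSpec (q.comap (algebraMap Γ(X, U) (X.presheaf.stalk x))) := by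
    rw [← hU.fromSpecStalk_eq_fromSpecStalk hx]
    rfl
  have hz : X.fromSpecStalk x q ∈ U := by
    rw [he, ← SetLike.mem_coe, ← hU.range_fromSpec]; exact ⟨_, rfl⟩
  have hp : hU.primeIdealOf ⟨_, hz⟩ = q.comap (algebraMap Γ(X, U) (X.presheaf.stalk x)) :=
    hU.fromSpec.isOpenEmbedding.injective ((hU.fromSpec_primeIdealOf ⟨_, hz⟩).trans he)
  rw [StalkLoc.Ass.mem_ass_iff hU hz, hp,
    ← Module.associatedPrimes.preimage_comap_associatedPrimes_eq_associatedPrimes_of_isLocalizedModule
      (hU.primeIdealOf ⟨x, hx⟩).asIdeal.primeCompl (X.presheaf.stalk x) (germₗ M hx)]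
  rfl

/-- A point of the support has a generalization which is an associated point. -/
theorem exists_ass_specializes [IsLocallyNoetherian X] [M.IsQuasicoherent] {x : X}
    (hx : Nontrivial (M.presheaf.stalk x)) : ∃ z ∈ AssSch.Ass M, z ⤳ x := by
  obtain ⟨q, hq⟩ := associatedPrimes.nonempty (X.presheaf.stalk x) (M.presheaf.stalk x)
  refine ⟨_, (mem_associatedPrimes_stalk_iff x ⟨q, hq.1⟩).mp hq, ?_⟩
  have := Scheme.range_fromSpecStalk (X := X) (x := x)
  exact this.le ⟨_, rfl⟩

/-- An annihilated germ gives an associated generalization where the function vanishes. -/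
theorem exists_ass_of_smul_eq_zero [IsLocallyNoetherian X] [M.IsQuasicoherent] {U : X.Opens}
    {x : X} (hx : x ∈ U) (v : M.presheaf.stalk x) (hv : v ≠ 0) :
    ∃ (z : X) (hz : z ∈ U), z ∈ AssSch.Ass M ∧ z ⤳ x ∧ ∀ a : Γ(X, U),
      X.presheaf.germ U x hx a • v = 0 → z ∉ X.basicOpen a := by
  obtain ⟨q, hq, hle⟩ := exists_le_isAssociatedPrime_of_isNoetherianRing (X.presheaf.stalk x) v hv
  let qq : Spec (X.presheaf.stalk x) := ⟨q, hq.1⟩
  have hzx : X.fromSpecStalk x qq ⤳ x := (Scheme.range_fromSpecStalk (X := X) (x := x)).le ⟨_, rfl⟩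
  refine ⟨_, hzx.mem_open U.2 hx, (mem_associatedPrimes_stalk_iff x qq).mp hq, hzx, fun a ha hza => ?_⟩
  have hmem : qq ∈ (X.fromSpecStalk x) ⁻¹ᵁ X.basicOpen a := hza
  rw [Scheme.preimage_basicOpen, Scheme.fromSpecStalk_app hx, CommRingCat.comp_apply,
    CommRingCat.comp_apply] at hmem
  rw [Scheme.basicOpen_res _ _ (homOfLE (le_top : X.fromSpecStalk x ⁻¹ᵁ U ≤ ⊤)).op] at hmem
  rw [basicOpen_eq_of_affine] at hmem
  exact hmem.2 (hle (by simpa [Submodule.mem_colon_singleton] using ha))

lemma closedPoint_eq_iff {x : X} (q : Spec (X.presheaf.stalk x)) :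
    X.fromSpecStalk x q = x ↔ q.asIdeal = IsLocalRing.maximalIdeal (X.presheaf.stalk x) := by
  constructor
  · intro h
    rw [(X.fromSpecStalk x).isEmbedding.injective
      (h.trans (Scheme.fromSpecStalk_closedPoint (x := x)).symm)]
    rfl
  · intro h
    rw [show q = IsLocalRing.closedPoint (X.presheaf.stalk x) from PrimeSpectrum.ext h]
    exact Scheme.fromSpecStalk_closedPoint

/-- A finite module over a Noetherian local ring all of whose associated primes are maximal has
finite length. -/
theorem isFiniteLength_of_associatedPrimes {R : Type*} [CommRing R] [IsNoetherianRing R]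
    [IsLocalRing R] {N : Type*} [AddCommGroup N] [Module R N] [Module.Finite R N]
    (h : ∀ q ∈ associatedPrimes R N, q = IsLocalRing.maximalIdeal R) : IsFiniteLength R N := by
  rw [isFiniteLength_iff_isNoetherian_isArtinian]
  refine ⟨inferInstance, ?_⟩
  set a := Module.annihilator R N
  have : Ring.KrullDimLE 0 (R ⧸ a) := by
    refine .mk₀ fun P hP => ?_
    have hle : a ≤ P.comap (Ideal.Quotient.mk a) := fun r hr => by
      rw [Ideal.mem_comap, Ideal.Quotient.eq_zero_iff_mem.mpr hr]; exact zero_mem _
    have := Ideal.IsPrime.comap (Ideal.Quotient.mk a) (K := P)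
    obtain ⟨p, hp, hpP⟩ := Ideal.exists_minimalPrimes_le hle
    have hmax : IsLocalRing.maximalIdeal R ≤ P.comap (Ideal.Quotient.mk a) :=
      (h p (Module.associatedPrimes.minimalPrimes_annihilator_subset_associatedPrimes R N hp)).ge.trans hpP
    have : (P.comap (Ideal.Quotient.mk a)).IsMaximal :=
      (IsLocalRing.maximalIdeal.isMaximal R).eq_of_le this.ne_top hmax ▸ IsLocalRing.maximalIdeal.isMaximal R
    rw [← Ideal.map_comap_of_surjective _ Ideal.Quotient.mk_surjective P]
    refine (Ideal.map_eq_top_or_isMaximal_of_surjective _ Ideal.Quotient.mk_surjective this).resolve_left fun e => hP.ne_top ?_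
    rw [← Ideal.map_comap_of_surjective _ Ideal.Quotient.mk_surjective P, e]
  have : IsArtinianRing (R ⧸ a) := IsNoetherianRing.isArtinianRing_of_krullDimLE_zero
  let _ : Module (R ⧸ a) N := Module.quotientAnnihilator
  have : IsScalarTower R (R ⧸ a) N :=
    Module.IsTorsionBySet.isScalarTower (Module.isTorsionBySet_annihilator R N)
  have : Module.Finite (R ⧸ a) N := Module.Finite.of_restrictScalars_finite R _ _
  exact isArtinian_of_surjective_algebraMap (R := R ⧸ a) Ideal.Quotient.mk_surjective

end Groth.Agent.Lib.StalkLoc.AssStalk
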