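import Groth.Prelude.Def_FDesc
import Groth.Agent.Lib.StalkLoc.Basic
import Mathlib.RingTheory.Ideal.AssociatedPrime.Localization

/-!
# Associated points of a quasi-coherent module and associated primes of sections on an affine open
-/

universe u

open CategoryTheory AlgebraicGeometry Opposite TopologicalSpace

namespace Groth.Agent.Lib.StalkLoc.Ass

open Groth.Agent.Lib.StalkLoc.Basic

variable {X : Scheme.{u}} {M : X.Modules}

/-- On a locally Noetherian scheme, `x` is an associated point of a quasi-coherent module iff the
corresponding prime is associated to the module of sections on an affine open containing it. -/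
theorem mem_ass_iff [IsLocallyNoetherian X] [M.IsQuasicoherent] {U : X.Opens} (hU : IsAffineOpen U)
    {x : X} (hx : x ∈ U) :
    x ∈ AssSch.Ass M ↔
      (hU.primeIdealOf ⟨x, hx⟩).asIdeal ∈ associatedPrimes Γ(X, U) Γ(M, U) := by
  let _ := moduleSections M hx
  let _ := TopCat.Presheaf.algebra_section_stalk X.presheaf (⟨x, hx⟩ : U)
  have := isScalarTower_sections M hx
  have := hU.isLocalization_stalk ⟨x, hx⟩
  have := isLocalizedModule_germ (M := M) hU hx
  have := IsLocallyNoetherian.component_noetherian ⟨U, hU⟩
  set p := (hU.primeIdealOf ⟨x, hx⟩).asIdeal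
  have hp : (IsLocalRing.maximalIdeal (X.presheaf.stalk x)).comap
      (algebraMap Γ(X, U) (X.presheaf.stalk x)) = p :=
    IsLocalization.AtPrime.comap_maximalIdeal (X.presheaf.stalk x) p
  show IsLocalRing.maximalIdeal (X.presheaf.stalk x) ∈
    associatedPrimes (X.presheaf.stalk x) (M.presheaf.stalk x) ↔ _
  rw [← Module.associatedPrimes.preimage_comap_associatedPrimes_eq_associatedPrimes_of_isLocalizedModule
    p.primeCompl (X.presheaf.stalk x) (germₗ M hx), Set.mem_preimage, hp]

end Groth.Agent.Lib.StalkLoc.Ass
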